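import Groth.Agent.Lib.Helper19.UnionPO.Alg
import Mathlib

set_option autoImplicit false
universe u
open CategoryTheory CategoryTheory.Limits AlgebraicGeometry

namespace Groth.Agent.Helper19.UnionPO

open Scheme IdealSheafData

variable {S : Scheme.{u}} (I J : S.IdealSheafData)

/-- extension lemma over open immersions covering. -/
theorem hom_ext_of_forall_immersion {X Y : Scheme.{u}} (f g : X ⟶ Y)
    (H : ∀ x : X, ∃ (V : Scheme.{u}) (l : V ⟶ X) (_ : IsOpenImmersion l),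
      x ∈ Set.range l ∧ l ≫ f = l ≫ g) : f = g := by
  apply Scheme.hom_ext_of_forall
  intro x
  obtain ⟨V, l, hl, hx, h⟩ := H x
  refine ⟨l.opensRange, hx, ?_⟩
  have e : l.opensRange.ι = l.isoOpensRange.inv ≫ l := by
    rw [Iso.eq_inv_comp]; exact Scheme.Hom.isoOpensRange_hom_ι l
  rw [e, Category.assoc, Category.assoc, h]

/-- points of the two pieces with the same image have a common preimage in the intersection. -/
theorem exists_point_inter {I J : S.IdealSheafData} (x : I.subscheme) (y : J.subscheme)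
    (h : I.subschemeι x = J.subschemeι y) :
    ∃ z : (I ⊔ J).subscheme, inclusion (le_sup_left : I ≤ I ⊔ J) z = x ∧
      inclusion (le_sup_right : J ≤ I ⊔ J) z = y := by
  have hs : I.subschemeι x ∈ (I ⊔ J).support := by
    rw [support_sup]
    refine ⟨?_, ?_⟩
    · rw [← range_subschemeι]; exact ⟨x, rfl⟩
    · rw [← range_subschemeι]; exact ⟨y, h.symm⟩
  rw [← SetLike.mem_coe, ← range_subschemeι] at hs
  obtain ⟨z, hz⟩ := hs
  refine ⟨z, ?_, ?_⟩
  · apply I.subschemeι.isEmbedding.injective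
    rw [← hz, ← Scheme.Hom.comp_apply, inclusion_subschemeι]
  · apply J.subschemeι.isEmbedding.injective
    rw [← h, ← hz, ← Scheme.Hom.comp_apply, inclusion_subschemeι]


/-- the affine pieces of a closed subscheme, with uniform types. -/
noncomputable def cov (K : S.IdealSheafData) (U : S.affineOpens) : K.glueDataObj U ⟶ K.subscheme :=
  K.subschemeCover.f U

instance isOpenImmersion_cov (K : S.IdealSheafData) (U : S.affineOpens) :
    IsOpenImmersion (cov K U) :=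
  inferInstanceAs (IsOpenImmersion (K.subschemeCover.f (U : K.subschemeCover.I₀)))

theorem cov_inclusion {I J : S.IdealSheafData} (h : I ≤ J) (U : S.affineOpens) :
    cov J U ≫ inclusion h = glueDataObjHom h U ≫ cov I U :=
  subSchemeCover_map_inclusion h U

theorem opensRange_cov (K : S.IdealSheafData) (U : S.affineOpens) :
    (cov K U).opensRange = K.subschemeι ⁻¹ᵁ U :=
  opensRange_subschemeCover_map K U

end Groth.Agent.Helper19.UnionPO

namespace Groth.Agent.Helper19.UnionPO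

open Scheme IdealSheafData

theorem exists_open_nhd_of_isClosedEmbedding {X S : Type*} [TopologicalSpace X] [TopologicalSpace S]
    (ι : X → S) (hι : Topology.IsClosedEmbedding ι) (A : Set X) (hA : IsOpen A) (s : S)
    (hs : ∀ x, ι x = s → x ∈ A) : ∃ O : Set S, IsOpen O ∧ s ∈ O ∧ ι ⁻¹' O ⊆ A := by
  obtain ⟨O₁, hO₁, rfl⟩ := hι.isInducing.isOpen_iff.mp hA
  refine ⟨O₁ ∪ (Set.range ι)ᶜ, hO₁.union hι.isClosed_range.isOpen_compl, ?_, ?_⟩
  · by_cases h : s ∈ Set.range ι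
    · obtain ⟨x, rfl⟩ := h
      exact Or.inl (hs x rfl)
    · exact Or.inr h
  · rintro x (hx | hx)
    · exact hx
    · exact absurd ⟨x, rfl⟩ hx

variable {S : Scheme.{u}} (I J : S.IdealSheafData) {T : Scheme.{u}}
  (a : I.subscheme ⟶ T) (b : J.subscheme ⟶ T)
  (hab : inclusion (le_sup_left : I ≤ I ⊔ J) ≫ a = inclusion (le_sup_right : J ≤ I ⊔ J) ≫ b)

include hab in
theorem apply_eq_of_eq (x : I.subscheme) (y : J.subscheme)
    (h : I.subschemeι x = J.subschemeι y) : a x = b y := by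
  obtain ⟨z, rfl, rfl⟩ := exists_point_inter x y h
  rw [← Scheme.Hom.comp_apply, ← Scheme.Hom.comp_apply, hab]

include hab in
theorem exists_local (w : (I ⊓ J).subscheme) :
    ∃ (U : S.affineOpens) (g : (I ⊓ J).glueDataObj U ⟶ T),
      (I ⊓ J).subschemeι w ∈ U.1 ∧
      glueDataObjHom (inf_le_left : I ⊓ J ≤ I) U ≫ g = cov I U ≫ a ∧
      glueDataObjHom (inf_le_right : I ⊓ J ≤ J) U ≫ g = cov J U ≫ b := by
  classical
  set s := (I ⊓ J).subschemeι w with hs
  -- choose the affine open of `T`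
  obtain ⟨T₀, hT₀a, hT₀b⟩ : ∃ T₀ : T.affineOpens,
      (∀ x, I.subschemeι x = s → a x ∈ T₀.1) ∧ (∀ y, J.subschemeι y = s → b y ∈ T₀.1) := by
    by_cases hx : ∃ x₀, I.subschemeι x₀ = s
    · obtain ⟨x₀, hx₀⟩ := hx
      obtain ⟨T₀, hT₀, hmem, -⟩ := TopologicalSpace.Opens.isBasis_iff_nbhd.mp T.isBasis_affineOpens
        (U := ⊤) (x := a x₀) trivial
      refine ⟨⟨T₀, hT₀⟩, ?_, ?_⟩
      · intro x hx
        have : x = x₀ := I.subschemeι.isEmbedding.injective (hx.trans hx₀.symm)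
        rw [this]; exact hmem
      · intro y hy
        rw [← apply_eq_of_eq I J a b hab x₀ y (hx₀.trans hy.symm)]; exact hmem
    · by_cases hy : ∃ y₀, J.subschemeι y₀ = s
      · obtain ⟨y₀, hy₀⟩ := hy
        obtain ⟨T₀, hT₀, hmem, -⟩ := TopologicalSpace.Opens.isBasis_iff_nbhd.mp T.isBasis_affineOpens
          (U := ⊤) (x := b y₀) trivial
        refine ⟨⟨T₀, hT₀⟩, ?_, ?_⟩
        · intro x hx'
          exact absurd ⟨x, hx'⟩ hx
        · intro y hy
          have : y = y₀ := J.subschemeι.isEmbedding.injective (hy.trans hy₀.symm)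
          rw [this]; exact hmem
      · exact ⟨⟨⊥, isAffineOpen_bot T⟩, fun x hx' => absurd ⟨x, hx'⟩ hx,
          fun y hy' => absurd ⟨y, hy'⟩ hy⟩
  -- opens of `S`
  obtain ⟨O₁, hO₁, hsO₁, hO₁'⟩ := exists_open_nhd_of_isClosedEmbedding I.subschemeι
    I.subschemeι.isClosedEmbedding (a ⁻¹ᵁ T₀.1 : I.subscheme.Opens).1 (a ⁻¹ᵁ T₀.1).2 s hT₀a
  obtain ⟨O₂, hO₂, hsO₂, hO₂'⟩ := exists_open_nhd_of_isClosedEmbedding J.subschemeι
    J.subschemeι.isClosedEmbedding (b ⁻¹ᵁ T₀.1 : J.subscheme.Opens).1 (b ⁻¹ᵁ T₀.1).2 s hT₀b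
  obtain ⟨U, hU, hsU, hUO⟩ := TopologicalSpace.Opens.isBasis_iff_nbhd.mp S.isBasis_affineOpens
    (U := ⟨O₁ ∩ O₂, hO₁.inter hO₂⟩) (x := s) ⟨hsO₁, hsO₂⟩
  -- the two ring maps
  have hrX : Set.range (cov I ⟨U, hU⟩ ≫ a) ⊆ Set.range T₀.2.fromSpec := by
    rw [IsAffineOpen.range_fromSpec]
    rintro _ ⟨p, rfl⟩
    have hp : cov I ⟨U, hU⟩ p ∈ (cov I ⟨U, hU⟩).opensRange := ⟨p, rfl⟩
    rw [opensRange_cov] at hp
    exact hO₁' (hUO hp).1
  have hrY : Set.range (cov J ⟨U, hU⟩ ≫ b) ⊆ Set.range T₀.2.fromSpec := by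
    rw [IsAffineOpen.range_fromSpec]
    rintro _ ⟨p, rfl⟩
    have hp : cov J ⟨U, hU⟩ p ∈ (cov J ⟨U, hU⟩).opensRange := ⟨p, rfl⟩
    rw [opensRange_cov] at hp
    exact hO₂' (hUO hp).2
  let mX := IsOpenImmersion.lift T₀.2.fromSpec (cov I ⟨U, hU⟩ ≫ a) hrX
  let mY := IsOpenImmersion.lift T₀.2.fromSpec (cov J ⟨U, hU⟩ ≫ b) hrY
  have hmX : mX ≫ T₀.2.fromSpec = cov I ⟨U, hU⟩ ≫ a := IsOpenImmersion.lift_fac _ _ _
  have hmY : mY ≫ T₀.2.fromSpec = cov J ⟨U, hU⟩ ≫ b := IsOpenImmersion.lift_fac _ _ _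
  let α := Spec.preimage mX
  let β := Spec.preimage mY
  have hα : Spec.map α = mX := Spec.map_preimage _
  have hβ : Spec.map β = mY := Spec.map_preimage _
  have hcompat : (Ideal.Quotient.factor (le_sup_left : I.ideal ⟨U, hU⟩ ≤ I.ideal ⟨U, hU⟩ ⊔ J.ideal ⟨U, hU⟩)).comp α.hom =
      (Ideal.Quotient.factor (le_sup_right : J.ideal ⟨U, hU⟩ ≤ I.ideal ⟨U, hU⟩ ⊔ J.ideal ⟨U, hU⟩)).comp β.hom := by
    have e : α ≫ CommRingCat.ofHom (Ideal.Quotient.factor
          (le_sup_left : I.ideal ⟨U, hU⟩ ≤ I.ideal ⟨U, hU⟩ ⊔ J.ideal ⟨U, hU⟩)) =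
        β ≫ CommRingCat.ofHom (Ideal.Quotient.factor
          (le_sup_right : J.ideal ⟨U, hU⟩ ≤ I.ideal ⟨U, hU⟩ ⊔ J.ideal ⟨U, hU⟩)) := by
      apply Spec.map_injective
      rw [← cancel_mono T₀.2.fromSpec, Spec.map_comp, Spec.map_comp, Category.assoc, Category.assoc,
        hα, hβ]
      have e1 := cov_inclusion (le_sup_left : I ≤ I ⊔ J) ⟨U, hU⟩
      have e2 := cov_inclusion (le_sup_right : J ≤ I ⊔ J) ⟨U, hU⟩
      have E : glueDataObjHom (le_sup_left : I ≤ I ⊔ J) ⟨U, hU⟩ ≫ cov I ⟨U, hU⟩ ≫ a =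
          glueDataObjHom (le_sup_right : J ≤ I ⊔ J) ⟨U, hU⟩ ≫ cov J ⟨U, hU⟩ ≫ b := by
        rw [← Category.assoc, ← Category.assoc, ← e1, ← e2, Category.assoc, Category.assoc, hab]
      exact (congrArg (fun t => glueDataObjHom (le_sup_left : I ≤ I ⊔ J) ⟨U, hU⟩ ≫ t) hmX).trans
        (E.trans (congrArg (fun t => glueDataObjHom (le_sup_right : J ≤ I ⊔ J) ⟨U, hU⟩ ≫ t)
          hmY).symm)
    exact congrArg CommRingCat.Hom.hom e
  obtain ⟨φ, hφ1, hφ2⟩ := quot_inf_lift (I.ideal ⟨U, hU⟩) (J.ideal ⟨U, hU⟩) α.hom β.hom hcompat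
  refine ⟨⟨U, hU⟩, Spec.map (CommRingCat.ofHom φ) ≫ T₀.2.fromSpec, hsU, ?_, ?_⟩
  · rw [← hmX, ← hα]
    change Spec.map _ ≫ Spec.map _ ≫ _ = _
    rw [← Spec.map_comp_assoc]
    congr 2
    ext c
    exact RingHom.congr_fun hφ1 c
  · rw [← hmY, ← hβ]
    change Spec.map _ ≫ Spec.map _ ≫ _ = _
    rw [← Spec.map_comp_assoc]
    congr 2
    ext c
    exact RingHom.congr_fun hφ2 c

end Groth.Agent.Helper19.UnionPO

namespace Groth.Agent.Helper19.UnionPO

open Scheme IdealSheafData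

variable {S : Scheme.{u}} (I J : S.IdealSheafData)

/-- the union is covered by the two pieces. -/
theorem exists_preimage_union (w : (I ⊓ J).subscheme) :
    (∃ x, inclusion (inf_le_left : I ⊓ J ≤ I) x = w) ∨
      (∃ y, inclusion (inf_le_right : I ⊓ J ≤ J) y = w) := by
  have h1 : (I ⊓ J).subschemeι w ∈ (I ⊓ J).support := by
    rw [← SetLike.mem_coe, ← range_subschemeι]; exact ⟨w, rfl⟩
  have h2 : (I ⊓ J).support ≤ (I * J).support := by
    apply support_antitone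
    rw [le_def]
    intro U
    rw [ideal_mul, ideal_inf]
    exact Ideal.mul_le_inf
  have h3 := h2 h1
  rw [support_mul] at h3
  rcases h3 with h3 | h3
  · left
    rw [← range_subschemeι] at h3
    obtain ⟨x, hx⟩ := h3
    refine ⟨x, (I ⊓ J).subschemeι.isEmbedding.injective ?_⟩
    rw [← hx, ← Scheme.Hom.comp_apply, inclusion_subschemeι]
  · right
    rw [← range_subschemeι] at h3
    obtain ⟨y, hy⟩ := h3
    refine ⟨y, (I ⊓ J).subschemeι.isEmbedding.injective ?_⟩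
    rw [← hy, ← Scheme.Hom.comp_apply, inclusion_subschemeι]

/-- small affine pieces inside an open of an open subscheme of the union -/
theorem exists_piece {V : Scheme.{u}} (u : V ⟶ (I ⊓ J).subscheme) [IsOpenImmersion u]
    (V' : V.Opens) (v : V) (hv : v ∈ V') :
    ∃ (U : S.affineOpens) (l : (I ⊓ J).glueDataObj U ⟶ V),
      l ≫ u = cov (I ⊓ J) U ∧ v ∈ Set.range l ∧ (∀ p, l p ∈ V') ∧
      (I ⊓ J).subschemeι (u v) ∈ U.1 := by
  have hop : IsOpen ((u ''ᵁ V' : (I ⊓ J).subscheme.Opens) : Set (I ⊓ J).subscheme) := (u ''ᵁ V').2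
  obtain ⟨O, hO, hOeq⟩ := (I ⊓ J).subschemeι.isEmbedding.isInducing.isOpen_iff.mp hop
  have hvO : (I ⊓ J).subschemeι (u v) ∈ O := by
    have : u v ∈ (I ⊓ J).subschemeι ⁻¹' O := by
      rw [hOeq]; exact ⟨v, hv, rfl⟩
    exact this
  obtain ⟨U, hU, hvU, hUO⟩ := TopologicalSpace.Opens.isBasis_iff_nbhd.mp S.isBasis_affineOpens
    (U := ⟨O, hO⟩) (x := (I ⊓ J).subschemeι (u v)) hvO
  have hrange : ∀ p, ∃ v' ∈ V', u v' = cov (I ⊓ J) ⟨U, hU⟩ p := by
    intro p
    have hp : cov (I ⊓ J) ⟨U, hU⟩ p ∈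
        (cov (I ⊓ J) ⟨U, hU⟩).opensRange := ⟨p, rfl⟩
    rw [opensRange_cov] at hp
    have : cov (I ⊓ J) ⟨U, hU⟩ p ∈ (I ⊓ J).subschemeι ⁻¹' O := hUO hp
    rw [hOeq] at this
    obtain ⟨v', hv', e⟩ := this
    exact ⟨v', hv', e⟩
  have hsub : Set.range (cov (I ⊓ J) ⟨U, hU⟩) ⊆ Set.range u := by
    rintro _ ⟨p, rfl⟩
    obtain ⟨v', -, e⟩ := hrange p
    exact ⟨v', e⟩
  refine ⟨⟨U, hU⟩, IsOpenImmersion.lift u _ hsub, IsOpenImmersion.lift_fac _ _ _, ?_, ?_, hvU⟩
  · have hv' : u v ∈ (cov (I ⊓ J) ⟨U, hU⟩).opensRange := by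
      rw [opensRange_cov]; exact hvU
    obtain ⟨p, hp⟩ := hv'
    refine ⟨p, u.isOpenEmbedding.injective ?_⟩
    rw [← hp, ← Scheme.Hom.comp_apply, IsOpenImmersion.lift_fac]
  · intro p
    obtain ⟨v', hv', e⟩ := hrange p
    have : IsOpenImmersion.lift u _ hsub p = v' := by
      apply u.isOpenEmbedding.injective
      rw [e, ← Scheme.Hom.comp_apply, IsOpenImmersion.lift_fac]
    exact this ▸ hv'

end Groth.Agent.Helper19.UnionPO

namespace Groth.Agent.Helper19.UnionPO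

open Scheme IdealSheafData

variable {S : Scheme.{u}} (I J : S.IdealSheafData)

theorem hom_ext_union {V T : Scheme.{u}} (u : V ⟶ (I ⊓ J).subscheme) [IsOpenImmersion u]
    (h₁ h₂ : V ⟶ T)
    (H : ∀ (U : S.affineOpens) (l : (I ⊓ J).glueDataObj U ⟶ V),
      l ≫ u = cov (I ⊓ J) U →
      glueDataObjHom (inf_le_left : I ⊓ J ≤ I) U ≫ l ≫ h₁ =
        glueDataObjHom (inf_le_left : I ⊓ J ≤ I) U ≫ l ≫ h₂ ∧
      glueDataObjHom (inf_le_right : I ⊓ J ≤ J) U ≫ l ≫ h₁ =
        glueDataObjHom (inf_le_right : I ⊓ J ≤ J) U ≫ l ≫ h₂) : h₁ = h₂ := by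
  apply hom_ext_of_forall_immersion
  intro v
  -- pointwise agreement
  have hpt : h₁ v = h₂ v := by
    obtain ⟨U, l, hl, ⟨p₀, hp₀⟩, -, hvU⟩ := exists_piece I J u ⊤ v trivial
    obtain ⟨hX, hY⟩ := H U l hl
    rcases exists_preimage_union I J (u v) with ⟨x, hx⟩ | ⟨y, hy⟩
    · have hxU : x ∈ (cov I U).opensRange := by
        rw [opensRange_cov]
        change I.subschemeι x ∈ U.1
        rw [← inclusion_subschemeι (inf_le_left : I ⊓ J ≤ I), Scheme.Hom.comp_apply, hx]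
        exact hvU
      obtain ⟨x', hx'⟩ := hxU
      have e : l (glueDataObjHom (inf_le_left : I ⊓ J ≤ I) U x') = v := by
        apply u.isOpenEmbedding.injective
        have e1 : u (l (glueDataObjHom (inf_le_left : I ⊓ J ≤ I) U x')) =
            (glueDataObjHom (inf_le_left : I ⊓ J ≤ I) U ≫ cov (I ⊓ J) U) x' := by
          rw [← hl]; rfl
        rw [e1, ← cov_inclusion]
        exact (congrArg _ hx').trans hx
      have := congrArg (fun f : I.glueDataObj U ⟶ T => f x') hX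
      simp only [Scheme.Hom.comp_apply] at this
      rw [e] at this
      exact this
    · have hyU : y ∈ (cov J U).opensRange := by
        rw [opensRange_cov]
        change J.subschemeι y ∈ U.1
        rw [← inclusion_subschemeι (inf_le_right : I ⊓ J ≤ J), Scheme.Hom.comp_apply, hy]
        exact hvU
      obtain ⟨y', hy'⟩ := hyU
      have e : l (glueDataObjHom (inf_le_right : I ⊓ J ≤ J) U y') = v := by
        apply u.isOpenEmbedding.injective
        have e1 : u (l (glueDataObjHom (inf_le_right : I ⊓ J ≤ J) U y')) =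
            (glueDataObjHom (inf_le_right : I ⊓ J ≤ J) U ≫ cov (I ⊓ J) U) y' := by
          rw [← hl]; rfl
        rw [e1, ← cov_inclusion]
        exact (congrArg _ hy').trans hy
      have := congrArg (fun f : J.glueDataObj U ⟶ T => f y') hY
      simp only [Scheme.Hom.comp_apply] at this
      rw [e] at this
      exact this
  -- choose an affine open of T
  obtain ⟨T₀, hT₀, hmem, -⟩ := TopologicalSpace.Opens.isBasis_iff_nbhd.mp T.isBasis_affineOpens
    (U := ⊤) (x := h₁ v) trivial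
  obtain ⟨U, l, hl, hvl, hlV', -⟩ := exists_piece I J u (h₁ ⁻¹ᵁ T₀ ⊓ h₂ ⁻¹ᵁ T₀) v
    ⟨hmem, by change h₂ v ∈ T₀; rw [← hpt]; exact hmem⟩
  haveI : IsOpenImmersion (l ≫ u) := by
    rw [hl]
    exact inferInstanceAs (IsOpenImmersion (cov (I ⊓ J)
      (U : (I ⊓ J).subschemeCover.I₀)))
  haveI : IsOpenImmersion l := IsOpenImmersion.of_comp l u
  refine ⟨_, l, inferInstance, hvl, ?_⟩
  obtain ⟨hX, hY⟩ := H U l hl
  have hr1 : Set.range (l ≫ h₁) ⊆ Set.range (IsAffineOpen.fromSpec hT₀) := by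
    rw [IsAffineOpen.range_fromSpec]
    rintro _ ⟨p, rfl⟩
    exact (hlV' p).1
  have hr2 : Set.range (l ≫ h₂) ⊆ Set.range (IsAffineOpen.fromSpec hT₀) := by
    rw [IsAffineOpen.range_fromSpec]
    rintro _ ⟨p, rfl⟩
    exact (hlV' p).2
  let m₁ := IsOpenImmersion.lift (IsAffineOpen.fromSpec hT₀) (l ≫ h₁) hr1
  let m₂ := IsOpenImmersion.lift (IsAffineOpen.fromSpec hT₀) (l ≫ h₂) hr2
  have hm₁ : m₁ ≫ IsAffineOpen.fromSpec hT₀ = l ≫ h₁ := IsOpenImmersion.lift_fac _ _ _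
  have hm₂ : m₂ ≫ IsAffineOpen.fromSpec hT₀ = l ≫ h₂ := IsOpenImmersion.lift_fac _ _ _
  have key : Spec.preimage m₁ = Spec.preimage m₂ := by
    apply CommRingCat.hom_ext
    apply quot_inf_ext
    · have e : Spec.preimage m₁ ≫ CommRingCat.ofHom (Ideal.Quotient.factor
            (inf_le_left : I.ideal U ⊓ J.ideal U ≤ I.ideal U)) =
          Spec.preimage m₂ ≫ CommRingCat.ofHom (Ideal.Quotient.factor
            (inf_le_left : I.ideal U ⊓ J.ideal U ≤ I.ideal U)) := by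
        apply Spec.map_injective
        rw [← cancel_mono (IsAffineOpen.fromSpec hT₀), Spec.map_comp, Spec.map_comp,
          Spec.map_preimage, Spec.map_preimage, Category.assoc, Category.assoc]
        exact (congrArg (fun t => glueDataObjHom (inf_le_left : I ⊓ J ≤ I) U ≫ t) hm₁).trans
          (hX.trans (congrArg (fun t => glueDataObjHom (inf_le_left : I ⊓ J ≤ I) U ≫ t) hm₂).symm)
      exact congrArg CommRingCat.Hom.hom e
    · have e : Spec.preimage m₁ ≫ CommRingCat.ofHom (Ideal.Quotient.factor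
            (inf_le_right : I.ideal U ⊓ J.ideal U ≤ J.ideal U)) =
          Spec.preimage m₂ ≫ CommRingCat.ofHom (Ideal.Quotient.factor
            (inf_le_right : I.ideal U ⊓ J.ideal U ≤ J.ideal U)) := by
        apply Spec.map_injective
        rw [← cancel_mono (IsAffineOpen.fromSpec hT₀), Spec.map_comp, Spec.map_comp,
          Spec.map_preimage, Spec.map_preimage, Category.assoc, Category.assoc]
        exact (congrArg (fun t => glueDataObjHom (inf_le_right : I ⊓ J ≤ J) U ≫ t) hm₁).trans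
          (hY.trans (congrArg (fun t => glueDataObjHom (inf_le_right : I ⊓ J ≤ J) U ≫ t) hm₂).symm)
      exact congrArg CommRingCat.Hom.hom e
  have : m₁ = m₂ := by
    rw [← Spec.map_preimage m₁, ← Spec.map_preimage m₂, key]
  rw [← hm₁, ← hm₂, this]

end Groth.Agent.Helper19.UnionPO

namespace Groth.Agent.Helper19.UnionPO

open Scheme IdealSheafData

variable {S : Scheme.{u}} (I J : S.IdealSheafData) {T : Scheme.{u}}

theorem preimage_le_of_fac (U₀ U₁ : S.affineOpens)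
    (m : (I ⊓ J).glueDataObj U₀ ⟶ (I ⊓ J).glueDataObj U₁)
    (hm : m ≫ cov (I ⊓ J) U₁ = cov (I ⊓ J) U₀)
    (w : (I ⊓ J).subscheme) (hw : (I ⊓ J).subschemeι w ∈ U₀.1) :
    (I ⊓ J).subschemeι w ∈ U₁.1 := by
  have h0 : w ∈ (cov (I ⊓ J) U₀).opensRange := by
    rw [opensRange_cov]; exact hw
  obtain ⟨p, hp⟩ := h0
  have h1 : w ∈ (cov (I ⊓ J) U₁).opensRange := by
    refine ⟨m p, ?_⟩
    rw [← hp, ← hm]; rfl
  rw [opensRange_cov] at h1
  exact h1

/-- restriction of local pieces (left) -/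
theorem restrict_left (a : I.subscheme ⟶ T) (U₀ U₁ : S.affineOpens)
    (m : (I ⊓ J).glueDataObj U₀ ⟶ (I ⊓ J).glueDataObj U₁)
    (hm : m ≫ cov (I ⊓ J) U₁ = cov (I ⊓ J) U₀)
    (g₁ : (I ⊓ J).glueDataObj U₁ ⟶ T)
    (hg₁ : glueDataObjHom (inf_le_left : I ⊓ J ≤ I) U₁ ≫ g₁ = cov I U₁ ≫ a) :
    glueDataObjHom (inf_le_left : I ⊓ J ≤ I) U₀ ≫ m ≫ g₁ = cov I U₀ ≫ a := by
  have hsub : Set.range (cov I U₀) ⊆ Set.range (cov I U₁) := by
    rintro _ ⟨p, rfl⟩
    have hp : cov I U₀ p ∈ (cov I U₀).opensRange := ⟨p, rfl⟩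
    rw [opensRange_cov] at hp
    have hp' : (I ⊓ J).subschemeι (inclusion (inf_le_left : I ⊓ J ≤ I) (cov I U₀ p))
        ∈ U₀.1 := by
      rw [← Scheme.Hom.comp_apply, inclusion_subschemeι]; exact hp
    have := preimage_le_of_fac I J U₀ U₁ m hm _ hp'
    rw [← Scheme.Hom.comp_apply, inclusion_subschemeι] at this
    have h2 : cov I U₀ p ∈ (cov I U₁).opensRange := by
      rw [opensRange_cov]; exact this
    exact h2
  let m' := IsOpenImmersion.lift (cov I U₁) (cov I U₀) hsub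
  have hm' : m' ≫ cov I U₁ = cov I U₀ := IsOpenImmersion.lift_fac _ _ _
  have hcomm : m' ≫ glueDataObjHom (inf_le_left : I ⊓ J ≤ I) U₁ =
      glueDataObjHom (inf_le_left : I ⊓ J ≤ I) U₀ ≫ m := by
    rw [← cancel_mono (cov (I ⊓ J) U₁), Category.assoc, Category.assoc,
      ← cov_inclusion, ← Category.assoc, hm', hm, cov_inclusion]
  rw [← Category.assoc, ← hcomm, Category.assoc, hg₁, ← Category.assoc, hm']

/-- restriction of local pieces (right) -/
theorem restrict_right (b : J.subscheme ⟶ T) (U₀ U₁ : S.affineOpens)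
    (m : (I ⊓ J).glueDataObj U₀ ⟶ (I ⊓ J).glueDataObj U₁)
    (hm : m ≫ cov (I ⊓ J) U₁ = cov (I ⊓ J) U₀)
    (g₁ : (I ⊓ J).glueDataObj U₁ ⟶ T)
    (hg₁ : glueDataObjHom (inf_le_right : I ⊓ J ≤ J) U₁ ≫ g₁ = cov J U₁ ≫ b) :
    glueDataObjHom (inf_le_right : I ⊓ J ≤ J) U₀ ≫ m ≫ g₁ = cov J U₀ ≫ b := by
  have hsub : Set.range (cov J U₀) ⊆ Set.range (cov J U₁) := by
    rintro _ ⟨p, rfl⟩
    have hp : cov J U₀ p ∈ (cov J U₀).opensRange := ⟨p, rfl⟩
    rw [opensRange_cov] at hp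
    have hp' : (I ⊓ J).subschemeι (inclusion (inf_le_right : I ⊓ J ≤ J) (cov J U₀ p))
        ∈ U₀.1 := by
      rw [← Scheme.Hom.comp_apply, inclusion_subschemeι]; exact hp
    have := preimage_le_of_fac I J U₀ U₁ m hm _ hp'
    rw [← Scheme.Hom.comp_apply, inclusion_subschemeι] at this
    have h2 : cov J U₀ p ∈ (cov J U₁).opensRange := by
      rw [opensRange_cov]; exact this
    exact h2
  let m' := IsOpenImmersion.lift (cov J U₁) (cov J U₀) hsub
  have hm' : m' ≫ cov J U₁ = cov J U₀ := IsOpenImmersion.lift_fac _ _ _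
  have hcomm : m' ≫ glueDataObjHom (inf_le_right : I ⊓ J ≤ J) U₁ =
      glueDataObjHom (inf_le_right : I ⊓ J ≤ J) U₀ ≫ m := by
    rw [← cancel_mono (cov (I ⊓ J) U₁), Category.assoc, Category.assoc,
      ← cov_inclusion, ← Category.assoc, hm', hm, cov_inclusion]
  rw [← Category.assoc, ← hcomm, Category.assoc, hg₁, ← Category.assoc, hm']

end Groth.Agent.Helper19.UnionPO

namespace Groth.Agent.Helper19.UnionPO

open Scheme IdealSheafData

variable {S : Scheme.{u}} (I J : S.IdealSheafData) {T : Scheme.{u}}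

theorem exists_desc (a : I.subscheme ⟶ T) (b : J.subscheme ⟶ T)
    (hab : inclusion (le_sup_left : I ≤ I ⊔ J) ≫ a = inclusion (le_sup_right : J ≤ I ⊔ J) ≫ b) :
    ∃ g : (I ⊓ J).subscheme ⟶ T,
      inclusion (inf_le_left : I ⊓ J ≤ I) ≫ g = a ∧
      inclusion (inf_le_right : I ⊓ J ≤ J) ≫ g = b := by
  choose U g hU hgX hgY using exists_local I J a b hab
  have hcov : ∀ w : (I ⊓ J).subscheme, w ∈ Set.range (cov (I ⊓ J) (U w)) := by
    intro w
    have : w ∈ (cov (I ⊓ J) (U w)).opensRange := by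
      rw [opensRange_cov]; exact hU w
    exact this
  let 𝒱 : (I ⊓ J).subscheme.OpenCover := {
    I₀ := (I ⊓ J).subscheme
    X w := (I ⊓ J).glueDataObj (U w)
    f w := cov (I ⊓ J) (U w)
    mem₀ := by
      rw [presieve₀_mem_precoverage_iff]
      exact ⟨fun w ↦ ⟨w, hcov w⟩, fun w => inferInstance⟩ }
  have hcompat : ∀ w w' : (I ⊓ J).subscheme,
      pullback.fst (𝒱.f w) (𝒱.f w') ≫ g w = pullback.snd (𝒱.f w) (𝒱.f w') ≫ g w' := by
    intro w w'
    apply hom_ext_union I J (pullback.fst (𝒱.f w) (𝒱.f w') ≫ 𝒱.f w)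
    intro U₀ l hl
    have hl1 : (l ≫ pullback.fst (𝒱.f w) (𝒱.f w')) ≫ cov (I ⊓ J) (U w) = cov (I ⊓ J) U₀ := by
      rw [Category.assoc]; exact hl
    have hl2 : (l ≫ pullback.snd (𝒱.f w) (𝒱.f w')) ≫ cov (I ⊓ J) (U w') = cov (I ⊓ J) U₀ := by
      rw [Category.assoc]
      have := pullback.condition (f := 𝒱.f w) (g := 𝒱.f w')
      change _ ≫ _ ≫ 𝒱.f w' = _
      rw [← this]; exact hl
    constructor
    · have e1 := restrict_left I J a U₀ (U w) _ hl1 (g w) (hgX w)
      have e2 := restrict_left I J a U₀ (U w') _ hl2 (g w') (hgX w')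
      simp only [Category.assoc] at e1 e2 ⊢
      rw [e1, e2]
    · have e1 := restrict_right I J b U₀ (U w) _ hl1 (g w) (hgY w)
      have e2 := restrict_right I J b U₀ (U w') _ hl2 (g w') (hgY w')
      simp only [Category.assoc] at e1 e2 ⊢
      rw [e1, e2]
  refine ⟨𝒱.glueMorphisms g hcompat, ?_, ?_⟩
  · apply hom_ext_of_forall_immersion
    intro x
    let w := inclusion (inf_le_left : I ⊓ J ≤ I) x
    refine ⟨_, cov I (U w), inferInstance, ?_, ?_⟩
    · have : x ∈ (cov I (U w)).opensRange := by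
        rw [opensRange_cov]
        change I.subschemeι x ∈ (U w).1
        rw [← inclusion_subschemeι (inf_le_left : I ⊓ J ≤ I), Scheme.Hom.comp_apply]
        exact hU w
      exact this
    · rw [← Category.assoc, cov_inclusion, Category.assoc]
      have := 𝒱.ι_glueMorphisms g hcompat w
      change cov (I ⊓ J) (U w) ≫ _ = _ at this
      rw [this, hgX]
  · apply hom_ext_of_forall_immersion
    intro y
    let w := inclusion (inf_le_right : I ⊓ J ≤ J) y
    refine ⟨_, cov J (U w), inferInstance, ?_, ?_⟩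
    · have : y ∈ (cov J (U w)).opensRange := by
        rw [opensRange_cov]
        change J.subschemeι y ∈ (U w).1
        rw [← inclusion_subschemeι (inf_le_right : I ⊓ J ≤ J), Scheme.Hom.comp_apply]
        exact hU w
      exact this
    · rw [← Category.assoc, cov_inclusion, Category.assoc]
      have := 𝒱.ι_glueMorphisms g hcompat w
      change cov (I ⊓ J) (U w) ≫ _ = _ at this
      rw [this, hgY]

theorem desc_unique (m₁ m₂ : (I ⊓ J).subscheme ⟶ T)
    (hX : inclusion (inf_le_left : I ⊓ J ≤ I) ≫ m₁ = inclusion (inf_le_left : I ⊓ J ≤ I) ≫ m₂)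
    (hY : inclusion (inf_le_right : I ⊓ J ≤ J) ≫ m₁ = inclusion (inf_le_right : I ⊓ J ≤ J) ≫ m₂) :
    m₁ = m₂ := by
  apply hom_ext_union I J (𝟙 _)
  intro U₀ l hl
  rw [Category.comp_id] at hl
  subst hl
  constructor
  · rw [← Category.assoc, ← cov_inclusion, Category.assoc, hX, ← Category.assoc,
      ← Category.assoc, ← cov_inclusion]
  · rw [← Category.assoc, ← cov_inclusion, Category.assoc, hY, ← Category.assoc,
      ← Category.assoc, ← cov_inclusion]

theorem isPushout :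
    IsPushout (inclusion (le_sup_left : I ≤ I ⊔ J)) (inclusion (le_sup_right : J ≤ I ⊔ J))
      (inclusion (inf_le_left : I ⊓ J ≤ I)) (inclusion (inf_le_right : I ⊓ J ≤ J)) := by
  have w : inclusion (le_sup_left : I ≤ I ⊔ J) ≫ inclusion (inf_le_left : I ⊓ J ≤ I) =
      inclusion (le_sup_right : J ≤ I ⊔ J) ≫ inclusion (inf_le_right : I ⊓ J ≤ J) := by
    rw [inclusion_comp, inclusion_comp]
  refine ⟨⟨w⟩, ⟨PushoutCocone.IsColimit.mk w
    (fun s => (exists_desc I J s.inl s.inr s.condition).choose)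
    (fun s => (exists_desc I J s.inl s.inr s.condition).choose_spec.1)
    (fun s => (exists_desc I J s.inl s.inr s.condition).choose_spec.2) ?_⟩⟩
  intro s m h1 h2
  apply desc_unique I J
  · rw [h1, (exists_desc I J s.inl s.inr s.condition).choose_spec.1]
  · rw [h2, (exists_desc I J s.inl s.inr s.condition).choose_spec.2]

end Groth.Agent.Helper19.UnionPO
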