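import Mathlib

set_option autoImplicit false
universe u

namespace Groth.Agent.Helper19.UnionPO

variable {R : Type u} [CommRing R] (I J : Ideal R)

/-- `R/(I ⊓ J) → R/I × R/J` is injective. -/
theorem quot_inf_inj (s : R ⧸ (I ⊓ J))
    (h1 : Ideal.Quotient.factor (inf_le_left : I ⊓ J ≤ I) s = 0)
    (h2 : Ideal.Quotient.factor (inf_le_right : I ⊓ J ≤ J) s = 0) : s = 0 := by
  obtain ⟨r, rfl⟩ := Ideal.Quotient.mk_surjective s
  rw [Ideal.Quotient.factor_mk, Ideal.Quotient.eq_zero_iff_mem] at h1 h2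
  rw [Ideal.Quotient.eq_zero_iff_mem]
  exact ⟨h1, h2⟩

theorem quot_inf_ext {C : Type u} [CommRing C] (φ₁ φ₂ : C →+* R ⧸ (I ⊓ J))
    (h1 : (Ideal.Quotient.factor (inf_le_left : I ⊓ J ≤ I)).comp φ₁ =
      (Ideal.Quotient.factor (inf_le_left : I ⊓ J ≤ I)).comp φ₂)
    (h2 : (Ideal.Quotient.factor (inf_le_right : I ⊓ J ≤ J)).comp φ₁ =
      (Ideal.Quotient.factor (inf_le_right : I ⊓ J ≤ J)).comp φ₂) : φ₁ = φ₂ := by
  ext c
  rw [← sub_eq_zero]
  apply quot_inf_inj
  · rw [map_sub, sub_eq_zero]; exact RingHom.congr_fun h1 c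
  · rw [map_sub, sub_eq_zero]; exact RingHom.congr_fun h2 c

/-- general lifting through an injective ring hom. -/
theorem exists_lift_of_injective {A B C : Type u} [CommRing A] [CommRing B] [CommRing C]
    (ψ : A →+* B) (hψ : Function.Injective ψ) (f : C →+* B) (hf : ∀ c, f c ∈ ψ.range) :
    ∃ φ : C →+* A, ψ.comp φ = f := by
  let e : A ≃+* ψ.range := RingEquiv.ofBijective ψ.rangeRestrict
    ⟨fun a b hab => hψ (congrArg Subtype.val hab), ψ.rangeRestrict_surjective⟩
  refine ⟨e.symm.toRingHom.comp (f.codRestrict ψ.range hf), ?_⟩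
  ext c
  have : ∀ y : ψ.range, ψ (e.symm y) = y.1 := by
    intro y
    have := e.apply_symm_apply y
    exact congrArg Subtype.val this
  exact this _

theorem quot_inf_lift {C : Type u} [CommRing C] (α : C →+* R ⧸ I) (β : C →+* R ⧸ J)
    (h : (Ideal.Quotient.factor (le_sup_left : I ≤ I ⊔ J)).comp α =
      (Ideal.Quotient.factor (le_sup_right : J ≤ I ⊔ J)).comp β) :
    ∃ φ : C →+* R ⧸ (I ⊓ J),
      (Ideal.Quotient.factor (inf_le_left : I ⊓ J ≤ I)).comp φ = α ∧
      (Ideal.Quotient.factor (inf_le_right : I ⊓ J ≤ J)).comp φ = β := by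
  let ψ : R ⧸ (I ⊓ J) →+* (R ⧸ I) × (R ⧸ J) :=
    (Ideal.Quotient.factor (inf_le_left : I ⊓ J ≤ I)).prod
      (Ideal.Quotient.factor (inf_le_right : I ⊓ J ≤ J))
  have hψ : Function.Injective ψ := by
    rw [injective_iff_map_eq_zero]
    intro s hs
    have h1 : Ideal.Quotient.factor (inf_le_left : I ⊓ J ≤ I) s = 0 := congrArg Prod.fst hs
    have h2 : Ideal.Quotient.factor (inf_le_right : I ⊓ J ≤ J) s = 0 := congrArg Prod.snd hs
    exact quot_inf_inj I J s h1 h2
  obtain ⟨φ, hφ⟩ := exists_lift_of_injective ψ hψ (α.prod β) (by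
    intro c
    obtain ⟨r₁, hr₁⟩ := Ideal.Quotient.mk_surjective (α c)
    obtain ⟨r₂, hr₂⟩ := Ideal.Quotient.mk_surjective (β c)
    have hc := RingHom.congr_fun h c
    simp only [RingHom.comp_apply] at hc
    rw [← hr₁, ← hr₂, Ideal.Quotient.factor_mk, Ideal.Quotient.factor_mk,
      Ideal.Quotient.eq, Submodule.mem_sup] at hc
    obtain ⟨i, hi, j, hj, hij⟩ := hc
    refine ⟨Ideal.Quotient.mk _ (r₁ - i), ?_⟩
    simp only [ψ, RingHom.prod_apply, Ideal.Quotient.factor_mk]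
    refine Prod.ext ?_ ?_
    · simp only [← hr₁]
      rw [Ideal.Quotient.eq]
      simpa using I.neg_mem hi
    · simp only [← hr₂]
      rw [Ideal.Quotient.eq]
      have : r₁ - i - r₂ = j := by linear_combination -hij
      rw [this]; exact hj)
  refine ⟨φ, ?_, ?_⟩
  · ext c
    exact congrArg Prod.fst (RingHom.congr_fun hφ c)
  · ext c
    exact congrArg Prod.snd (RingHom.congr_fun hφ c)

end Groth.Agent.Helper19.UnionPO
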